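import Cfsg.Agent.Mult.Fam

set_option autoImplicit false
set_option Elab.async false
set_option maxRecDepth 100000
set_option linter.all false

namespace Cfsg.Agent.U62C
open Cfsg.Agent.CGT

open Cfsg.Agent.Mult

noncomputable def ix : Ix (Fin 6) := ⟨Fin.val, 6, by decide, by decide, by decide⟩
noncomputable def Es : List (List ℕ × List ℕ × ℕ) := [([1, 1, 0, 0, 0, 0], [0, 0, 0, 0, 0, 0], 1), ([1, 1, 0, 0, 0, 0], [0, 0, 1, 0, 0, 0], 2), ([1, 1, 0, 0, 0, 0], [0, 0, 2, 0, 0, 0], 2), ([1, 1, 0, 0, 0, 0], [0, 0, 3, 0, 0, 0], 2), ([1, 1, 0, 0, 0, 0], [0, 0, 0, 1, 0, 0], 2), ([1, 1, 0, 0, 0, 0], [0, 0, 0, 2, 0, 0], 2), ([1, 1, 0, 0, 0, 0], [0, 0, 0, 3, 0, 0], 2), ([1, 1, 0, 0, 0, 0], [0, 0, 0, 0, 1, 0], 2), ([1, 1, 0, 0, 0, 0], [0, 0, 0, 0, 2, 0], 2), ([1, 1, 0, 0, 0, 0], [0, 0, 0, 0, 3, 0], 2),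 ([1, 1, 0, 0, 0, 0], [0, 0, 0, 0, 0, 1], 2), ([1, 1, 0, 0, 0, 0], [0, 0, 0, 0, 0, 2], 2), ([1, 1, 0, 0, 0, 0], [0, 0, 0, 0, 0, 3], 2), ([2, 3, 0, 0, 0, 0], [0, 0, 0, 0, 0, 0], 1), ([2, 3, 0, 0, 0, 0], [0, 0, 1, 0, 0, 0], 2), ([2, 3, 0, 0, 0, 0], [0, 0, 2, 0, 0, 0], 2), ([2, 3, 0, 0, 0, 0], [0, 0, 3, 0, 0, 0], 2), ([2, 3, 0, 0, 0, 0], [0, 0, 0, 1, 0, 0], 2), ([2, 3, 0, 0, 0, 0], [0, 0, 0, 2, 0, 0], 2), ([2, 3, 0, 0, 0, 0], [0, 0, 0, 3, 0, 0], 2), ([2, 3, 0, 0, 0, 0], [0, 0, 0, 0, 1, 0], 2), ([2, 3, 0, 0, 0, 0], [0, 0, 0, 0, 2, 0], 2), ([2, 3, 0, 0, 0, 0], [0, 0, 0, 0, 3, 0], 2), ([2, 3, 0, 0, 0, 0], [0, 0, 0, 0, 0, 1], 2), ([2, 3, 0, 0, 0, 0], [0, 0, 0, 0, 0, 2], 2), ([2, 3, 0, 0, 0, 0], [0, 0, 0, 0, 0, 3], 2)]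
noncomputable def Bs : List Pl := [[(4, 0), (8, 0), (1, 0), (2, 0), (0x10, 0), (0x20, 0), (0x40, 0), (0x80, 0), (0x100, 0), (0x200, 0), (0x400, 0), (0x800, 0)],
  [(0x1b, 0), (0x2d, 0), (0x1e, 0), (0x27, 0), (0x15, 0), (0x2a, 0), (0x40, 0), (0x80, 0), (0x100, 0), (0x200, 0), (0x400, 0), (0x800, 0)],
  [(0x3b, 0), (0x1d, 0), (0x3e, 0), (0x17, 0), (0x1a, 0), (0x2f, 0), (0x40, 0), (0x80, 0), (0x100, 0), (0x200, 0), (0x400, 0), (0x800, 0)],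
  [(0x2b, 0), (0x3d, 0), (0x2e, 0), (0x37, 0), (0x1f, 0), (0x25, 0), (0x40, 0), (0x80, 0), (0x100, 0), (0x200, 0), (0x400, 0), (0x800, 0)],
  [(0x4b, 0), (0x8d, 0), (0x4e, 0), (0x87, 0), (0x10, 0), (0x20, 0), (0x45, 0), (0x8a, 0), (0x100, 0), (0x200, 0), (0x400, 0), (0x800, 0)],
  [(0xcb, 0), (0x4d, 0), (0xce, 0), (0x47, 0), (0x10, 0), (0x20, 0), (0x4a, 0), (0x8f, 0), (0x100, 0), (0x200, 0), (0x400, 0), (0x800, 0)],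
  [(0x8b, 0), (0xcd, 0), (0x8e, 0), (0xc7, 0), (0x10, 0), (0x20, 0), (0x4f, 0), (0x85, 0), (0x100, 0), (0x200, 0), (0x400, 0), (0x800, 0)],
  [(0x10b, 0), (0x20d, 0), (0x10e, 0), (0x207, 0), (0x10, 0), (0x20, 0), (0x40, 0), (0x80, 0), (0x105, 0), (0x20a, 0), (0x400, 0), (0x800, 0)],
  [(0x30b, 0), (0x10d, 0), (0x30e, 0), (0x107, 0), (0x10, 0), (0x20, 0), (0x40, 0), (0x80, 0), (0x10a, 0), (0x20f, 0), (0x400, 0), (0x800, 0)],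
  [(0x20b, 0), (0x30d, 0), (0x20e, 0), (0x307, 0), (0x10, 0), (0x20, 0), (0x40, 0), (0x80, 0), (0x10f, 0), (0x205, 0), (0x400, 0), (0x800, 0)],
  [(0x40b, 0), (0x80d, 0), (0x40e, 0), (0x807, 0), (0x10, 0), (0x20, 0), (0x40, 0), (0x80, 0), (0x100, 0), (0x200, 0), (0x405, 0), (0x80a, 0)],
  [(0xc0b, 0), (0x40d, 0), (0xc0e, 0), (0x407, 0), (0x10, 0), (0x20, 0), (0x40, 0), (0x80, 0), (0x100, 0), (0x200, 0), (0x40a, 0), (0x80f, 0)],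
  [(0x80b, 0), (0xc0d, 0), (0x80e, 0), (0xc07, 0), (0x10, 0), (0x20, 0), (0x40, 0), (0x80, 0), (0x100, 0), (0x200, 0), (0x40f, 0), (0x805, 0)],
  [(0xc, 0), (4, 0), (2, 0), (3, 0), (0x10, 0), (0x20, 0), (0x40, 0), (0x80, 0), (0x100, 0), (0x200, 0), (0x400, 0), (0x800, 0)],
  [(0x27, 0), (0x39, 0), (0x3f, 0), (0x15, 0), (0x1b, 0), (0x2d, 0), (0x40, 0), (0x80, 0), (0x100, 0), (0x200, 0), (0x400, 0), (0x800, 0)],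
  [(0x17, 0), (0x29, 0), (0x2f, 0), (0x35, 0), (0x1d, 0), (0x26, 0), (0x40, 0), (0x80, 0), (0x100, 0), (0x200, 0), (0x400, 0), (0x800, 0)],
  [(0x37, 0), (0x19, 0), (0x1f, 0), (0x25, 0), (0x16, 0), (0x2b, 0), (0x40, 0), (0x80, 0), (0x100, 0), (0x200, 0), (0x400, 0), (0x800, 0)],
  [(0x87, 0), (0xc9, 0), (0xcf, 0), (0x45, 0), (0x10, 0), (0x20, 0), (0x4b, 0), (0x8d, 0), (0x100, 0), (0x200, 0), (0x400, 0), (0x800, 0)],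
  [(0x47, 0), (0x89, 0), (0x8f, 0), (0xc5, 0), (0x10, 0), (0x20, 0), (0x4d, 0), (0x86, 0), (0x100, 0), (0x200, 0), (0x400, 0), (0x800, 0)],
  [(0xc7, 0), (0x49, 0), (0x4f, 0), (0x85, 0), (0x10, 0), (0x20, 0), (0x46, 0), (0x8b, 0), (0x100, 0), (0x200, 0), (0x400, 0), (0x800, 0)],
  [(0x207, 0), (0x309, 0), (0x30f, 0), (0x105, 0), (0x10, 0), (0x20, 0), (0x40, 0), (0x80, 0), (0x10b, 0), (0x20d, 0), (0x400, 0), (0x800, 0)],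
  [(0x107, 0), (0x209, 0), (0x20f, 0), (0x305, 0), (0x10, 0), (0x20, 0), (0x40, 0), (0x80, 0), (0x10d, 0), (0x206, 0), (0x400, 0), (0x800, 0)],
  [(0x307, 0), (0x109, 0), (0x10f, 0), (0x205, 0), (0x10, 0), (0x20, 0), (0x40, 0), (0x80, 0), (0x106, 0), (0x20b, 0), (0x400, 0), (0x800, 0)],
  [(0x807, 0), (0xc09, 0), (0xc0f, 0), (0x405, 0), (0x10, 0), (0x20, 0), (0x40, 0), (0x80, 0), (0x100, 0), (0x200, 0), (0x40b, 0), (0x80d, 0)],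
  [(0x407, 0), (0x809, 0), (0x80f, 0), (0xc05, 0), (0x10, 0), (0x20, 0), (0x40, 0), (0x80, 0), (0x100, 0), (0x200, 0), (0x40d, 0), (0x806, 0)],
  [(0xc07, 0), (0x409, 0), (0x40f, 0), (0x805, 0), (0x10, 0), (0x20, 0), (0x40, 0), (0x80, 0), (0x100, 0), (0x200, 0), (0x406, 0), (0x80b, 0)]]
theorem h_base : (kpU K4 6 2).Gen kf4 ix [1, 1, 0, 0, 0, 0] [2, 3, 0, 0, 0, 0] Es Bs := by decide +kernel

end Cfsg.Agent.U62C
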