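import Cfsg.Agent.Mult.Slices
import Cfsg.Agent.U62C.Mul2D

set_option autoImplicit false
set_option Elab.async false
set_option maxRecDepth 100000
set_option linter.all false

namespace Cfsg.Agent.U62C
open Cfsg.Agent.CGT

open Cfsg.Agent.Mult

set_option Elab.async false
theorem u2_p : ptsOK 10 [0, 3, 2, 13, 12, 41, 40] = true := by decide +kernel
theorem u2_r0 : rulesD 10 m_ts u2_ds [0, 3, 2, 13, 12, 41, 40] (u2_D.rulesRange 0 15) = true := by decide +kernel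
theorem u2_f : rulesD 10 m_ts u2_ds [0, 3, 2, 13, 12, 41, 40] u2_D.fusRules = true := by decide +kernel
theorem u2_o : sylP u2_D 10 m_ts u2_ds [(13, [0x400000, 0x100000, 0x4000, 0x1000, 0x100]), (83, [0x501140, 0x501104]), (18, [0x510000, 0x1400, 0x5050, 0x1041]), (0, [0x10000000, 0x4000000, 0x1000000]), (2, [0x140000])] [] 15 = true := by decide +kernel
theorem u2_ok : u2_D.okB = true := by decide +kernel
theorem u2_t0 : u2_D.vecsK (u2_D.M u2_c) u2_c.F [.assoc 1 1 1, .assoc 0x400 0x400 0x400, .assoc 0x10000 0x10000 0x10000, .assoc 0x4000000 0x4000000 0x400, .assoc 0x4000000 0x4000000 0x10000, .assoc 0x4000 0x1000 1, .assoc 0x40000 0x1000 1, .assoc 0x40000 0x400 0x400, .assoc 0x100000 0x400 0x400, .assoc 0x400000 0x1000 1, .assoc 0x400000 0x40000 4, .assoc 0x400000 0x100000 0x400, .assoc 0x1000000 0x10000 0x10000, .assoc 0x4000000 0x10000 0x10000, .assoc 0x10000000 1 1, .assoc 0x4000000 0x400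 0x400, .assoc 0x40000 0x400 4, .assoc 0x100000 0x4000 0x400, .assoc 0x1000000 4 1, .assoc 0x1000000 0x40 1, .assoc 0x1000000 4 4, .assoc 0x4000000 0x40 1, .assoc 0x4000000 0x100 1, .assoc 0x4000000 0x400 0x100, .assoc 0x10000000 0x40 1, .assoc 0x10000000 0x400 0x100, .assoc 4 4 4, .assoc 0x10 0x10 1, .assoc 0x1000 0x1000 0x400, .assoc 0x4000 0x10 1, .assoc 0x10000 0x1000 0x1000, .assoc 0x10000 0x4000 0x4000, .assoc 0x40000 4 1, .assoc 0x40000 0x10 1, .assoc 0x40000 4 4, .assoc 0x40000 0x40000 0x10000, .assoc 0x100000 0x400 1, .assoc 0x400000 0x10 1, .assoc 0x40000 0x400 0x40, .assoc 0x40000 1 1, .assoc 0x100000 0x400 0x100, .assoc 0x1000 0x1000 0x40, .assoc 0x4000 0x4000 1, .assoc 0x4000 0x4000 0x400, .assoc 0x10000 0x400 0x400, .assoc 0x1000000 0x100 1, .assoc 0x40 0x10 0x10, .assoc 0x400 0x400 1, .assoc 0x400 0x10 0x10, .assoc 0x400 0x400 0x40, .assoc 0x40000 0x40 0x10, .assoc 0x400000 0x40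 0x10, .assoc 0x10 0x10 4, .assoc 0x1000 0x1000 4, .assoc 0x100000 0x10 4, .assoc 0x400000 0x400 0x10, .assoc 0x400000 1 1, .assoc 0x400000 0x40 0x40, .assoc 0x400 1 1, .assoc 0x400000 0x400 0x40, .assoc 0x400000 4 4, .assoc 0x4000 1 1, .assoc 0x4000 0x4000 0x100, .assoc 0x40000 0x40 0x40, .assoc 0x40 1 1, .assoc 0x40 0x40 0x40, .assoc 0x1000000 0x100 0x100, .assoc 0x4000 0x4000 4, .assoc 0x40000 0x100 0x100, .assoc 0x400 0x400 0x100, .assoc 0x1000 4 4, .assoc 0x1000 0x40 0x40, .assoc 0x400 0x40 1, .assoc 0x10000 0x10000 0x100, .assoc 0x400 4 4, .assoc 0x40000 0x100 0x40, .assoc 0x10000 1 1, .assoc 0x100000 0x100 0x100, .assoc 0x400 0x100 0x100, .assoc 0x400 0x100 1, .assoc 0x10000 0x40 0x40, .assoc 4 1 1, .assoc 0x100 0x100 0x100, .assoc 0x400 0x100 0x10, .assoc 0x4000 0x100 0x100, .assoc 4 4 1, .assoc 0x100 0x100 1, .assoc 0x10 4 1, .assoc 0x4000 4 1, .assoc 0x100 0x100 0x10, .assoc 0x100 4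 1, .assoc 0x100 0x40 0x10, .assoc 0x100 0x40 0x40, .assoc 0x40 4 1, .assoc 0x40 0x40 4, .assoc 0x100 0x40 1, .assoc 0x40 4 4, .assoc 0x40 0x10 4, .fus 15 [5, 5] [10], .fus 15 [2, 2] [8, 10], .fus 15 [5, 2] [2, 5, 9], .fus 15 [3, 3] [], .fus 15 [4, 4] [], .fus 15 [4, 2] [2, 4, 8, 9], .fus 15 [2, 1] [1, 2, 6, 7, 8, 9, 10], .fus 15 [4, 1] [1, 4, 7, 9], .fus 15 [2, 0] [0, 2, 7, 8, 9], .fus 15 [4, 0] [0, 4, 6, 8], .fus 16 [15, 15] [], .fus 16 [13, 13] [], .fus 16 [15, 13] [13, 15], .fus 16 [19, 11] [11, 19, 21], .fus 16 [13, 11] [11, 13, 18, 21], .fus 16 [15, 11] [11, 15, 18, 20], .fus 16 [15, 14] [14, 15, 19, 20], .fus 16 [13, 12] [12, 13, 17, 18, 20]] (fun l => beqL l u2_v0) = true := by decide +kernel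

end Cfsg.Agent.U62C
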