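import Cfsg.Agent.Mult.Slices
import Cfsg.Agent.U62C.Tabs
import Cfsg.Agent.U62C.PresR

set_option autoImplicit false
set_option Elab.async false
set_option maxRecDepth 100000
set_option linter.all false

namespace Cfsg.Agent.U62C
open Cfsg.Agent.CGT

open Cfsg.Agent.Mult

noncomputable def mulc3_C : List (ℕ × ℕ) := [(0x907028038010205020a00001d59500030007408048832002a08a1528083a028020c1031314050a501422803004000012258240430101030100063004005c80103800009480000108150301080a0800c82018004, 0x6228e00d0108619004141812000488404dc00220a0224428d000000114200480005000c408882848102000488909c0901402194805004480080910040a1a160a08020426012c0820400208400b52480004202208),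
  (0xe1026cc215722950b25b5e1044c45002987422411896514307253925a4b05820a1a11084ad101d28c42b2b8c2c04960bda182af4034a418b082800e0a807a8132942206e0051c5d8a421993040a660084148a2c0, 0x140812106005560544a0002d10020c840482c83ca029ac8020d282d24202a2164214a61a500e40122a54841241da096005249000a484a4748497be021390458c4680431107a42a0010d82608a60883903e35492e),
  (0xc09d845280a0020207228080101a1303020000016023910470020008b5b220020408136510244650410001080004204408011001400942280480040001a01400100880024004305065900a40100400000a200c, 0x6c02625180105dbc186014496461058000751849340300401008101c8340480048b8b6ec000900a8200861002180801200800082802000801088029000005f2008825109448de0c4800020e19400000020000040),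
  (0x6500200c46821d000e232033a894011011014004267080d112101332216053004906101a30014101220425a18900040004008012010081700088800000000300308001c520944801921026e100040000000c0000, 0x18841470993c008000100d480449c4ea4a26232091040108010884880080200400a00cc482ca002848e0ca044488c03860000401085100821a0050808010508144109c10120804d021610108d000100020200004),
  (0xe080028082911008408101824024e1908252000000390089608008a00d0002086104180208010480482203bf4908201048088011018808003008800002026a1400400014080120c8c511026020501800000c1824, 0x11611065002488458e703048211804000821130896049c121224a00002e4900608082254035010039045480004060308840004c0884480e00000008000200003781a1000104c1900004418899400040020000080),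
  (0x610002b4c28601402a62040100049000010200143200018800008000d880010041200816954022281220084800804400d80004108100880008080000000104032c02000000102c808a00a42800008800000c00c0, 0x4d00040041032041001108c000004000a6152210000084061040404040002802a00a08000014100c00940803408000804008900084000d800800080020099208188299024884054408808103400041120010008),
  (0x8804a8415889040c841a4900042da000060698513c112a0415208300102090481000a1028c90c09ee2022244800043040000811014001000000800004012e4008000101208140054025000002c0000000800000, 0x2040b062883368803020010c44082491030382280404085206a4060c08e0a0082030840e920020a0104c498024088002020014088080026a188000800000513fc5140082055000d021081c089000000020000004),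
  (0x6482260c99a0138898d111800105cc0401130940000001006010f2b440c9d130285500083605042741a2054089804000c808003a098001a018048000002227100402800100100c340000522020d01000000c0100, 0x9548870001f68410106004424d800581000522425442c0913a4040b8a040284d2a8b297098000003045ea802648800805400a019450801220880080020110044000144044002000158400d88400000020000000),
  (0x48448800005b1489881981708c09204880700411cc495d053001825a4820a202051021a1c82448a9028024808008618400006108100816011808000820007108110400100500415018110b54000100000040000, 0x140044311920a00025025c8201844521330ca2c0000600a20c406120b40904447282104a00920216245098024006820800028200801288228201080002040040000004044010140140400483080840028000000)]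
noncomputable def mulc3_U : ℕ := Nat.sub (Nat.pow 2 672) 1
noncomputable def mulc3_a : List ℕ := [0, 1, 0, 0, 0, 0, 0, 0, 0, 0, 0, 0, 0, 0, 0, 0, 0, 0, 0, 0, 0, 0, 0, 1, 1, 0, 0, 1, 0, 2, 1, 1, 2, 0, 0, 0, 1, 0, 0, 0, 0, 1, 2, 0, 0, 0, 0, 1, 2]

end Cfsg.Agent.U62C
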